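import Mathlib.RingTheory.Flat.FaithfullyFlat.Basic
import Mathlib.LinearAlgebra.TensorProduct.Quotient

/-!
# Tensoring a module over an algebra with a (faithfully) flat module
-/

set_option linter.style.haveILetI false

universe u

open TensorProduct

namespace Groth.Agent.FlatTensor5

variable {C B P G : Type u} [CommRing C] [CommRing B] [Algebra C B]
  [AddCommGroup P] [Module B P] [Module C P] [IsScalarTower C B P]
  [AddCommGroup G] [Module B G] [Module C G] [IsScalarTower C B G]

theorem lTensor_comm {Q : Type u} [AddCommMonoid Q] [Module C Q] (K : Submodule C Q) (z) :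
    (K.subtype.lTensor (P ⊗[B] G)) z =
      (AlgebraTensorModule.assoc C B B P G Q).symm
        ((AlgebraTensorModule.lTensor B G K.subtype).lTensor P
          (AlgebraTensorModule.assoc C B B P G K z)) := by
  induction z using TensorProduct.induction_on with
  | zero => simp
  | add a b ha hb => simp only [map_add, ha, hb]
  | tmul w k =>
    induction w using TensorProduct.induction_on with
    | zero => simp
    | add a b ha hb => simp only [TensorProduct.add_tmul, map_add, ha, hb]
    | tmul l p => simp

/-- A flat `B`-module tensored with a `C`-flat `B`-module is `C`-flat. -/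
theorem flat_tensor [Module.Flat B P] [Module.Flat C G] : Module.Flat C (P ⊗[B] G) := by
  rw [Module.Flat.iff_lTensor_injectiveₛ]
  intro Q _ _ K
  have h1 := Module.Flat.lTensor_preserves_injective_linearMap (M := G) K.subtype Subtype.val_injective
  have h2 : Function.Injective ((AlgebraTensorModule.lTensor B G K.subtype).lTensor P) :=
    Module.Flat.lTensor_preserves_injective_linearMap _ h1
  intro a b hab
  rw [lTensor_comm (C := C) (B := B) (P := P) (G := G) K a, lTensor_comm (C := C) (B := B) (P := P) (G := G) K b] at hab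
  exact (AlgebraTensorModule.assoc C B B P G K).injective
    (h2 ((AlgebraTensorModule.assoc C B B P G Q).symm.injective hab))

/-- Flatness over `C` descends along a faithfully flat `B`-module. -/
theorem flat_right_of_tensor [Module.FaithfullyFlat B P] [Module.Flat C (P ⊗[B] G)] : Module.Flat C G := by
  rw [Module.Flat.iff_lTensor_injectiveₛ]
  intro Q _ _ K
  rw [← AlgebraTensorModule.coe_lTensor (A := B), ← Module.FaithfullyFlat.lTensor_injective_iff_injective B P]
  intro a b hab
  obtain ⟨a, rfl⟩ := (AlgebraTensorModule.assoc C B B P G K).surjective a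
  obtain ⟨b, rfl⟩ := (AlgebraTensorModule.assoc C B B P G K).surjective b
  refine congrArg _ (Module.Flat.lTensor_preserves_injective_linearMap K.subtype Subtype.val_injective ?_)
  rw [lTensor_comm (C := C) (B := B) (P := P) (G := G) K a, lTensor_comm (C := C) (B := B) (P := P) (G := G) K b,
    hab]

omit [Module B G] [IsScalarTower C B G] [Algebra C B] [Module B P] [IsScalarTower C B P] in
theorem smul_top_eq_top_iff (m : Ideal C) :
    m • (⊤ : Submodule C G) = ⊤ ↔ Subsingleton (G ⊗[C] (C ⧸ m)) := by
  rw [← Submodule.Quotient.subsingleton_iff]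
  exact (TensorProduct.tensorQuotEquivQuotSMul G m).symm.toEquiv.subsingleton_congr

theorem smul_top_tensor_eq_top (m : Ideal C) (h : m • (⊤ : Submodule C G) = ⊤) :
    m • (⊤ : Submodule C (P ⊗[B] G)) = ⊤ := by
  rw [smul_top_eq_top_iff] at h ⊢
  haveI := h
  haveI : Subsingleton (P ⊗[B] (G ⊗[C] (C ⧸ m))) := inferInstance
  exact (AlgebraTensorModule.assoc C B B P G (C ⧸ m)).toEquiv.subsingleton

theorem smul_top_tensor_eq_top_iff [Module.FaithfullyFlat B P] (m : Ideal C) :
    m • (⊤ : Submodule C (P ⊗[B] G)) = ⊤ ↔ m • (⊤ : Submodule C G) = ⊤ := by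
  refine ⟨fun h => ?_, smul_top_tensor_eq_top m⟩
  rw [smul_top_eq_top_iff] at h ⊢
  haveI := h
  haveI : Subsingleton (P ⊗[B] (G ⊗[C] (C ⧸ m))) :=
    (AlgebraTensorModule.assoc C B B P G (C ⧸ m)).symm.toEquiv.subsingleton
  exact Module.FaithfullyFlat.lTensor_reflects_triviality B P _

theorem smul_top_eq_top_congr {T T' : Type u} [AddCommGroup T] [Module C T] [AddCommGroup T'] [Module C T']
    (e : T ≃ₗ[C] T') (m : Ideal C) : m • (⊤ : Submodule C T) = ⊤ ↔ m • (⊤ : Submodule C T') = ⊤ := by
  rw [smul_top_eq_top_iff, smul_top_eq_top_iff]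
  exact (e.rTensor (C ⧸ m)).toEquiv.subsingleton_congr

end Groth.Agent.FlatTensor5
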